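import Cfsg.Agent.CosetCert.Pack

/-! Generated: the table. -/

namespace Cfsg.Agent.McLRecog.Mid

open Cfsg.Agent.CosetCert

def edgeStore : Store := (.leaf 0x8eb0000a0000a550000d0000b410000e0000cd90000b0000bc5000070000b400000e0000ca70000800000260000a0000c3b000080000cf3000050000a540000e0000c3d000080000cf9000050000013000060000d0d0000c0000d010000800000140000b0000d0c0000c0000cd80000e00000150000c0000016000050000cdb000040000d890000400006cc0000500009d7000040000c670000900008e90000a00008ea0000e00000270000d00008e80000a0000d37000060000d870000500008dd000090000d4d000030000c660000a00008dc000090000d000000c000001b000030000c3c0000d0000ca60000d0000d4b000060000c3a0000d0000ce3000070000bc40000e0000d29000030000ce2000070000d3d000020000d31000030000011000020000d4a000080000d7f000060000d360000900000120000c0000d7e000060000cf20000d00005e80000200006cd0000b0000cf80000c0000d860000900000170000b0000cda0000b0000d880000b0000c5d0000400009d60000a0000bab000010000c5c000040000d4c000090000d59000010000d3000007000001900002000001a000080000d28000070000018000030000d3c00007000000f0000100000100000600005e900005000061e000010000001000000000baa00004000061f000020000baf000000000d5800003000000e000020000bae0000100005e50000000005e30000000000000000100005e40000000005e200000)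

def repStore : Store := (.leaf 0x1f00000000001300000000000a00000000000b00000000001400000000001b00000000000e00000000002100000000000900000000000c00000000001600000000000d000000000008000000000001000000000000)

def treeStore : Store := (.leaf 0xe40000000000a50000000000a2000000000084000000000082000000000065000000000061000000000044000000000042000000000041000000000024000000000021000000000020000000000002000000000000)

end Cfsg.Agent.McLRecog.Mid
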