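import Cfsg.Agent.McLRecog.Mid.FactsData
import Cfsg.Agent.McLRecog.Mid.JustData
import Cfsg.Agent.McLRecog.Mid.TableData
import Cfsg.Agent.CosetCert.CoxExtra
import Cfsg.Agent.CosetCert.Pack

/-! Generated: the certificate. -/

set_option maxRecDepth 100000

namespace Cfsg.Agent.McLRecog.Mid

open Cfsg.Agent.CosetCert

noncomputable def data : Data where
  K := 6
  n := 15
  M := 753
  Nf := 1733
  nR := 35
  iv := fun x => if x < 3 then x + 3 else if x < 6 then x - 3 else x
  F := get48 factStore
  J := getVar justStore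
  E := get48 edgeStore
  L := get48 repStore
  P := get48 treeStore
  W := [
    [0, 0],
    [3, 3],
    [2, 2, 2, 2, 2, 2, 2, 2],
    [2, 0, 2, 1, 1, 3, 4, 3, 5, 1],
    [2, 0, 5, 1, 1, 5, 3, 2, 4, 4],
    [2, 1, 1, 0, 4, 3, 5, 1, 2, 3],
    [2, 4, 4, 2, 0, 5, 1, 1, 5, 3],
    [2, 4, 4, 2, 3, 5, 1, 1, 5, 3],
    [2, 4, 2, 4, 2, 4, 5, 5, 5, 4],
    [2, 2, 2, 4, 5, 5, 5, 5, 1, 2],
    [2, 2, 2, 2, 0, 5, 5, 5, 5, 3],
    [2, 2, 2, 2, 3, 5, 5, 5, 5, 3],
    [2, 2, 2, 2, 1, 5, 5, 5, 5, 4],
    [0, 1, 1, 5, 0, 5, 3, 5, 1, 3, 2],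
    [0, 1, 2, 0, 4, 4, 2, 2, 1, 2, 4],
    [0, 2, 4, 4, 0, 5, 3, 4, 2, 3, 2],
    [0, 5, 0, 4, 2, 0, 2, 3, 2, 4, 4],
    [0, 5, 0, 4, 2, 3, 2, 3, 2, 4, 4],
    [1, 1, 1, 1, 1, 1, 5, 5, 5, 5, 1],
    [1, 1, 1, 1, 1, 2, 2, 2, 2, 1, 1],
    [1, 1, 1, 1, 1, 5, 5, 5, 5, 1, 1],
    [1, 1, 2, 4, 5, 5, 1, 1, 5, 4, 5],
    [1, 1, 2, 4, 2, 0, 2, 2, 1, 1, 2, 3],
    [0, 1, 0, 1, 0, 2, 2, 3, 1, 1, 3, 5, 5],
    [1, 1, 1, 1, 1, 1, 1, 1, 1, 1, 1, 1, 1, 1],
    [2, 0, 2, 0, 2, 0, 2, 3, 2, 3, 2, 3, 2, 3],
    [0, 1, 0, 1, 0, 4, 0, 1, 0, 1, 1, 3, 1, 3, 4, 4, 4],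
    [0, 1, 1, 1, 0, 1, 1, 1, 0, 1, 1, 1, 3, 4, 4, 4, 4],
    [],
    [0, 3],
    [1, 4],
    [2, 5],
    [3, 0],
    [4, 1],
    [5, 2],
    [0],
    [1]]
  PW := fun k => Nat.land (Nat.shiftRight 0x20000000000000000000020000000000000000001980000000000000000002280000000000000000002400000000000000000018600000000000000000028800000000000000000040800000000000000000000a529482108221082210834a52088210441284411040004190641906118461180004210842108421084200000c62084418c220882000000831086308ca31080000000c53084631462100000000846318c21084200000001086318c42108400000002318c6108421080000000a519064194260800000014a320c23284c10000000190652182528c200000005188632942310400000006411886098420800000000a6318c218c630000000010c63188318c600000000218c63046318c000000003118c6314631800000000a6318a328ca30000000010c211883294600000000218423046528c000000004188c4284421800000000a5190c2118230000000008c4290421846000000000006318c6318c00000000000000000042000000000000000000021 (Nat.mul 83 k)) 0x7ffffffffffffffffffff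
  powers := [
    ([0, 0], 1),
    ([3, 3], 1),
    ([2, 2, 2, 2, 2, 2, 2, 2], 1),
    ([2, 0, 2, 1, 1, 3, 4, 3, 5, 1], 1),
    ([2, 0, 5, 1, 1, 5, 3, 2, 4, 4], 1),
    ([2, 1, 1, 0, 4, 3, 5, 1, 2, 3], 1),
    ([2, 4, 4, 2, 0, 5, 1, 1, 5, 3], 1),
    ([2, 4, 4, 2, 3, 5, 1, 1, 5, 3], 1),
    ([2, 4, 2, 4, 2, 4, 5, 5, 5, 4], 1),
    ([2, 2, 2, 4, 5, 5, 5, 5, 1, 2], 1),
    ([2, 2, 2, 2, 0, 5, 5, 5, 5, 3], 1),
    ([2, 2, 2, 2, 3, 5, 5, 5, 5, 3], 1),
    ([2, 2, 2, 2, 1, 5, 5, 5, 5, 4], 1),
    ([0, 1, 1, 5, 0, 5, 3, 5, 1, 3, 2], 1),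
    ([0, 1, 2, 0, 4, 4, 2, 2, 1, 2, 4], 1),
    ([0, 2, 4, 4, 0, 5, 3, 4, 2, 3, 2], 1),
    ([0, 5, 0, 4, 2, 0, 2, 3, 2, 4, 4], 1),
    ([0, 5, 0, 4, 2, 3, 2, 3, 2, 4, 4], 1),
    ([1, 1, 1, 1, 1, 1, 5, 5, 5, 5, 1], 1),
    ([1, 1, 1, 1, 1, 2, 2, 2, 2, 1, 1], 1),
    ([1, 1, 1, 1, 1, 5, 5, 5, 5, 1, 1], 1),
    ([1, 1, 2, 4, 5, 5, 1, 1, 5, 4, 5], 1),
    ([1, 1, 2, 4, 2, 0, 2, 2, 1, 1, 2, 3], 1),
    ([0, 1, 0, 1, 0, 2, 2, 3, 1, 1, 3, 5, 5], 1),
    ([1, 1, 1, 1, 1, 1, 1, 1, 1, 1, 1, 1, 1, 1], 1),
    ([2, 0, 2, 0, 2, 0, 2, 3, 2, 3, 2, 3, 2, 3], 1),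
    ([0, 1, 0, 1, 0, 4, 0, 1, 0, 1, 1, 3, 1, 3, 4, 4, 4], 1),
    ([0, 1, 1, 1, 0, 1, 1, 1, 0, 1, 1, 1, 3, 4, 4, 4, 4], 1),
    ([], 1),
    ([0, 3], 1),
    ([1, 4], 1),
    ([2, 5], 1),
    ([3, 0], 1),
    ([4, 1], 1),
    ([5, 2], 1)]

/-- The relators. -/
def relWords : List (List (Fin 3 × Bool)) := [
    [(0, true), (0, true)],
    [(0, false), (0, false)],
    [(2, true), (2, true), (2, true), (2, true), (2, true), (2, true), (2, true), (2, true)],
    [(2, true), (0, true), (2, true), (1, true), (1, true), (0, false), (1, false), (0, false), (2, false), (1, true)],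
    [(2, true), (0, true), (2, false), (1, true), (1, true), (2, false), (0, false), (2, true), (1, false), (1, false)],
    [(2, true), (1, true), (1, true), (0, true), (1, false), (0, false), (2, false), (1, true), (2, true), (0, false)],
    [(2, true), (1, false), (1, false), (2, true), (0, true), (2, false), (1, true), (1, true), (2, false), (0, false)],
    [(2, true), (1, false), (1, false), (2, true), (0, false), (2, false), (1, true), (1, true), (2, false), (0, false)],
    [(2, true), (1, false), (2, true), (1, false), (2, true), (1, false), (2, false), (2, false), (2, false), (1, false)],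
    [(2, true), (2, true), (2, true), (1, false), (2, false), (2, false), (2, false), (2, false), (1, true), (2, true)],
    [(2, true), (2, true), (2, true), (2, true), (0, true), (2, false), (2, false), (2, false), (2, false), (0, false)],
    [(2, true), (2, true), (2, true), (2, true), (0, false), (2, false), (2, false), (2, false), (2, false), (0, false)],
    [(2, true), (2, true), (2, true), (2, true), (1, true), (2, false), (2, false), (2, false), (2, false), (1, false)],
    [(0, true), (1, true), (1, true), (2, false), (0, true), (2, false), (0, false), (2, false), (1, true), (0, false), (2, true)],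
    [(0, true), (1, true), (2, true), (0, true), (1, false), (1, false), (2, true), (2, true), (1, true), (2, true), (1, false)],
    [(0, true), (2, true), (1, false), (1, false), (0, true), (2, false), (0, false), (1, false), (2, true), (0, false), (2, true)],
    [(0, true), (2, false), (0, true), (1, false), (2, true), (0, true), (2, true), (0, false), (2, true), (1, false), (1, false)],
    [(0, true), (2, false), (0, true), (1, false), (2, true), (0, false), (2, true), (0, false), (2, true), (1, false), (1, false)],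
    [(1, true), (1, true), (1, true), (1, true), (1, true), (1, true), (2, false), (2, false), (2, false), (2, false), (1, true)],
    [(1, true), (1, true), (1, true), (1, true), (1, true), (2, true), (2, true), (2, true), (2, true), (1, true), (1, true)],
    [(1, true), (1, true), (1, true), (1, true), (1, true), (2, false), (2, false), (2, false), (2, false), (1, true), (1, true)],
    [(1, true), (1, true), (2, true), (1, false), (2, false), (2, false), (1, true), (1, true), (2, false), (1, false), (2, false)],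
    [(1, true), (1, true), (2, true), (1, false), (2, true), (0, true), (2, true), (2, true), (1, true), (1, true), (2, true), (0, false)],
    [(0, true), (1, true), (0, true), (1, true), (0, true), (2, true), (2, true), (0, false), (1, true), (1, true), (0, false), (2, false), (2, false)],
    [(1, true), (1, true), (1, true), (1, true), (1, true), (1, true), (1, true), (1, true), (1, true), (1, true), (1, true), (1, true), (1, true), (1, true)],
    [(2, true), (0, true), (2, true), (0, true), (2, true), (0, true), (2, true), (0, false), (2, true), (0, false), (2, true), (0, false), (2, true), (0, false)],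
    [(0, true), (1, true), (0, true), (1, true), (0, true), (1, false), (0, true), (1, true), (0, true), (1, true), (1, true), (0, false), (1, true), (0, false), (1, false), (1, false), (1, false)],
    [(0, true), (1, true), (1, true), (1, true), (0, true), (1, true), (1, true), (1, true), (0, true), (1, true), (1, true), (1, true), (0, false), (1, false), (1, false), (1, false), (1, false)]]

/-- The subgroup's generators. -/
def subLetters : List (Fin 3) := [0, 1]

/-- The numbering of the generators. -/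
def enc (b : Fin 3) : Nat := b.val

/-- The generator of a number. -/
def dec (x : Nat) : Fin 3 × Bool := if x < 3 then (Fin.ofNat 3 x, true) else (Fin.ofNat 3 x, false)


end Cfsg.Agent.McLRecog.Mid
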